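import Cfsg.Agent.Blocks.CyclicExc.Isometry
import Cfsg.Agent.S4653
import Cfsg.Agent.S0154
import Cfsg.Agent.S0859
import Cfsg.Agent.GaloisDegree.Basic
import Cfsg.Agent.Blocks.NilBlock.Setup
import Cfsg.Agent.Zass.Basic

/-!
# A cyclic group extended by a group acting faithfully of order dividing `p - 1`
-/

set_option autoImplicit false
set_option linter.unusedSectionVars false
set_option linter.style.haveILetI false

namespace CfsgLib.CyclicExc

open Cfsg CfsgLib CfsgLib.Blocks CfsgLib.CharBasics CfsgLib.PairAlg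

attribute [local instance] CfsgLib.Blocks.residueField CfsgLib.Blocks.residue_charP

universe u

variable {p : ℕ} [hp : Fact p.Prime] {M : Ideal AlgInt}

section Frame

variable {a e : ℕ} {R : Finset (ZMod (p ^ a))} {G : Type u} [Group G] [Fintype G] [Fintype (IrrCharacter G)]
  {B : Set (IrrCharacter G)}

theorem Frame.sum_v (F : Frame M e R B) (O : Orb R) (g : G) :
    ∑ χ : IrrCharacter G, (F.v O χ : ℂ) * (χ : G → ℂ) g =
      (F.ε : ℂ) * (F.f O : G → ℂ) g + ∑ χ ∈ (Set.toFinite B).toFinset, (F.w χ : ℂ) * (χ : G → ℂ) g := by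
  classical
  rw [← Finset.sum_subset (Finset.subset_univ (Set.toFinite B).toFinset) fun χ _ hχ => by
    rw [F.v_out O χ (by simpa using hχ), Int.cast_zero, zero_mul]]
  rw [Finset.sum_congr rfl fun χ hχ => by rw [F.v_eq O χ (by simpa using hχ), Int.cast_add, add_mul],
    Finset.sum_add_distrib, add_comm]
  congr 1
  rw [Finset.sum_eq_single_of_mem (F.f O) (by simpa using F.f_mem O) fun χ _ hne => by rw [if_neg hne]; simp]
  simp

/-- The exceptional members agree on the regular elements. -/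
theorem Frame.agree (F : Frame M e R B) (O O' : Orb R) {g : G} (hg : ¬ p ∣ orderOf g) :
    (F.f O : G → ℂ) g = (F.f O' : G → ℂ) g := by
  have h := (F.sum_v O g).symm.trans ((F.regular O g hg).trans ((F.regular O' g hg).symm.trans (F.sum_v O' g)))
  refine mul_left_cancel₀ (Int.cast_ne_zero.2 (fun h0 => by have := F.hε; omega : F.ε ≠ 0)) (add_right_cancel h)

/-- With one member that is not exceptional its sign is opposite. -/
theorem Frame.w_of_one (F : Frame M 1 R B) (hn : Nonempty (Orb R)) {χ : IrrCharacter G} (hχ : χ ∈ B)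
    (hne : ∀ O, χ ≠ F.f O) : F.w χ = -F.ε := by
  classical
  obtain ⟨O⟩ := hn
  have h1 : ¬ p ∣ orderOf (1 : G) := by rw [orderOf_one]; exact hp.out.not_dvd_one
  have h := (F.sum_v O 1).symm.trans (F.regular O 1 h1)
  set XB := (Set.toFinite B).toFinset \ Finset.univ.image F.f with hXB
  have hcX : XB.card = 1 := by
    rw [hXB, Finset.card_sdiff_of_subset, ← Nat.card_eq_card_finite_toFinset (Set.toFinite B), F.card,
      Finset.card_image_of_injective _ F.f_inj, Finset.card_univ, Nat.add_sub_cancel]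
    intro x hx
    obtain ⟨O', -, rfl⟩ := Finset.mem_image.1 hx
    simpa using F.f_mem O'
  have hXeq : XB = {χ} := by
    obtain ⟨x, hx⟩ := Finset.card_eq_one.1 hcX
    have : χ ∈ XB := Finset.mem_sdiff.2 ⟨by simpa using hχ, fun h' => by
      obtain ⟨O', -, h''⟩ := Finset.mem_image.1 h'
      exact hne O' h''.symm⟩
    rw [hx, Finset.mem_singleton] at this
    rw [hx, this]
  rw [Finset.sum_eq_single_of_mem χ (by simpa using hχ) fun x hx hxne => ?_] at h
  · rw [apply_one (isCharacter_of_irr (F.f O).2), apply_one (isCharacter_of_irr χ.2)] at h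
    have h' : F.ε * (charDegree (F.f O : G → ℂ) : ℤ) + F.w χ * (charDegree (χ : G → ℂ) : ℤ) = 0 := by exact_mod_cast h
    have d1 := charDegree_pos (F.f O).2
    have d2 := charDegree_pos χ.2
    rcases F.hε with e1 | e1 <;> rcases F.hw χ hχ hne with e2 | e2 <;> rw [e1, e2] at h' ⊢ <;> omega
  · have hxX : x ∉ XB := by rw [hXeq]; simpa using hxne
    obtain ⟨O', -, rfl⟩ := Finset.mem_image.1 (by
      by_contra hc
      exact hxX (Finset.mem_sdiff.2 ⟨hx, hc⟩) : x ∈ Finset.univ.image F.f)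
    rw [F.w_f, Int.cast_zero, zero_mul]

end Frame

variable {F : Type u} [Group F] [Fintype F] [Fintype (IrrCharacter F)]

/-- The model group: one block with a frame, whose characters nontrivial on the cyclic group are exceptional. -/
theorem exists_model (hM : IsPModular p M) {a e : ℕ} (ha : 1 ≤ a) (hdvd : e ∣ p - 1) (hF : Nat.card F = p ^ a * e)
    {Q : Subgroup F} (hQ : IsCyclic Q) (hQcard : Nat.card Q = p ^ a)
    (hQC : Subgroup.centralizer (Q : Set F) = Q) :
    ∃ R : Finset (ZMod (p ^ a)), ∃ Fc : Frame M e R (Set.univ : Set (IrrCharacter F)),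
      2 ≤ e → ∀ η η' : IrrCharacter F, (∃ x ∈ Q, (η : F → ℂ) x ≠ (η : F → ℂ) 1) →
        (∃ x ∈ Q, (η' : F → ℂ) x ≠ (η' : F → ℂ) 1) → η = η' ∨ ((∃ O, η = Fc.f O) ∧ ∃ O, η' = Fc.f O) := by
  classical
  have he0 : e ≠ 0 := fun h => by rw [h, mul_zero] at hF; exact Nat.card_pos.ne' hF
  have hep : e ≤ p - 1 := Nat.le_of_dvd (by have := hp.out.two_le; omega) hdvd
  have hQp : IsPGroup p Q := IsPGroup.of_card hQcard
  have hidx : Q.index = e := by
    have h := Q.card_mul_index
    rw [hQcard, hF] at h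
    exact Nat.eq_of_mul_eq_mul_left (pow_pos hp.out.pos _) h
  have hpe : ¬ p ∣ e := fun h => by
    have := Nat.le_of_dvd (Nat.pos_of_ne_zero he0) h
    have := hp.out.two_le
    omega
  let S : Sylow p F := hQp.toSylow (by rw [hidx]; exact hpe)
  have hS : (S : Subgroup F) = Q := rfl
  have hone : Nat.card (Sylow p F) = 1 := by
    have h1 : Nat.card (Sylow p F) ∣ e := hidx ▸ S.card_dvd_index
    have h2 := card_sylow_modEq_one p F
    have h3 := Nat.le_of_dvd (Nat.pos_of_ne_zero he0) h1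
    exact h2.eq_of_lt_of_lt (by omega) hp.out.one_lt
  haveI hQn : Q.Normal := by
    haveI : Subsingleton (Sylow p F) := (Nat.card_eq_one_iff_unique.1 hone).1
    rw [← hS]
    exact S.normal_of_subsingleton
  have hmemQ : ∀ g : F, (∃ k, orderOf g = p ^ k) → g ∈ Q := fun g ⟨k, hk⟩ => by
    rw [← QuotientGroup.eq_one_iff, ← orderOf_eq_one_iff]
    refine Nat.eq_one_of_dvd_coprimes ((hp.out.coprime_iff_not_dvd.2 hpe).pow_left k) ?_ ?_
    · exact hk ▸ orderOf_map_dvd (QuotientGroup.mk' Q) g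
    · exact hidx ▸ Subgroup.index_eq_card Q ▸ orderOf_dvd_natCard _
  -- a single block
  have hzero : ∀ (χ : IrrCharacter F) (g : F), g ≠ 1 → blockCoeff (blockOf M (χ : F → ℂ)) g = 0 := by
    intro χ g hg
    have hB := isPBlock_blockOf M χ
    by_cases hpg : p ∣ orderOf g
    · exact blockCoeff_eq_zero hM hB hpg
    refine Cfsg.Agent.S4653.result p M hM Q hQp _ hB g fun h => hg ?_
    rw [hQC] at h
    obtain ⟨k, hk⟩ := IsPGroup.iff_orderOf.1 hQp ⟨g, h⟩
    rw [Subgroup.orderOf_mk] at hk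
    rcases k with _ | k
    · exact orderOf_eq_one_iff.1 (by rw [hk, pow_zero])
    · exact absurd (hk ▸ dvd_pow_self p k.succ_ne_zero) hpg
  have hall : ∀ χ ψ : IrrCharacter F, ψ ∈ blockOf M (χ : F → ℂ) := fun χ ψ => by
    have hω : ∀ φ : IrrCharacter F,
        omega (φ : F → ℂ) (blockElt (blockOf M (χ : F → ℂ))) = blockCoeff (blockOf M (χ : F → ℂ)) 1 := fun φ => by
      rw [omega, Finset.sum_eq_single (1 : F) (fun g _ hg => by rw [coeff_blockElt, hzero χ g hg, zero_mul]) (by simp),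
        coeff_blockElt, mul_div_assoc, div_self (apply_one_ne_zero φ.2), mul_one]
    have h1 := (hω ψ).trans (hω χ).symm
    rw [omega_blockElt, omega_blockElt, if_pos (mem_blockOf_self hM χ)] at h1
    by_contra hne
    rw [if_neg hne] at h1
    exact zero_ne_one h1
  have hblk : IsPBlock M (Set.univ : Set (IrrCharacter F)) := by
    have : blockOf M ((oneChar : IrrCharacter F) : F → ℂ) = Set.univ := Set.eq_univ_iff_forall.2 (hall _)
    exact this ▸ isPBlock_blockOf M _
  obtain ⟨D, hD⟩ := NilBlock.exists_defectGroup hM hblk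
  have hDQ : D = Q := by
    have hDp : IsPGroup p D := isPGroup_of_isDefectGroup hD
    have hle : D ≤ Q := fun g hg => by
      obtain ⟨k, hk⟩ := IsPGroup.iff_orderOf.1 hDp ⟨g, hg⟩
      exact hmemQ g ⟨k, by rwa [Subgroup.orderOf_mk] at hk⟩
    refine Subgroup.eq_of_le_of_card_ge hle (le_of_eq ?_)
    have hmin : sInf ((fun φ : IrrCharacter F => (charDegree (φ : F → ℂ)).factorization p) '' Set.univ) = 0 := by
      refine Nat.sInf_eq_zero.2 (Or.inl ⟨oneChar, Set.mem_univ _, ?_⟩)
      have h := apply_one (isCharacter_of_irr (oneChar : IrrCharacter F).2)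
      have h1 : charDegree ((oneChar : IrrCharacter F) : F → ℂ) = 1 := by
        rw [show ((oneChar : IrrCharacter F) : F → ℂ) 1 = 1 from rfl] at h
        exact_mod_cast h.symm
      simp [h1]
    rw [card_defectGroup hM hblk hD, blockDefect, hmin, Nat.sub_zero, hQcard, hF,
      Nat.factorization_mul (pow_ne_zero _ hp.out.ne_zero) he0, Finsupp.add_apply,
      Nat.Prime.factorization_pow hp.out, Nat.factorization_eq_zero_of_not_dvd hpe]
    simp
  subst hDQ
  obtain ⟨c, hmax⟩ := exists_maximal_on_defect hM hblk hD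
  have hc := KleinFour.induced_of_pairOf hM hmax.1
  have hQ1 : D ≠ ⊥ := fun h => by
    rw [h, Subgroup.card_bot] at hQcard
    exact (Nat.one_lt_pow (by omega : a ≠ 0) hp.out.one_lt).ne hQcard
  have hcall : ∀ χ ψ : IrrCharacter (Subgroup.centralizer (D : Set F)), ψ ∈ blockOf M (χ : Subgroup.centralizer (D : Set F) → ℂ) := by
    intro χ ψ
    haveI : Fintype (Subgroup.centralizer (D : Set F)) := Fintype.ofFinite _
    have hp' : IsPGroup p (Subgroup.centralizer (D : Set F)) := by rw [hQC]; exact hQp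
    have hz : ∀ g : Subgroup.centralizer (D : Set F), g ≠ 1 → blockCoeff (blockOf M (χ : Subgroup.centralizer (D : Set F) → ℂ)) g = 0 := fun g hg => by
      refine blockCoeff_eq_zero hM (isPBlock_blockOf M χ) ?_
      obtain ⟨k, hk⟩ := IsPGroup.iff_orderOf.1 hp' g
      rw [hk]
      exact dvd_pow_self p fun h => hg (orderOf_eq_one_iff.1 (by rw [hk, h, pow_zero]))
    have hω : ∀ φ : IrrCharacter (Subgroup.centralizer (D : Set F)),
        omega (φ : Subgroup.centralizer (D : Set F) → ℂ) (blockElt (blockOf M (χ : Subgroup.centralizer (D : Set F) → ℂ))) = blockCoeff (blockOf M (χ : Subgroup.centralizer (D : Set F) → ℂ)) 1 := fun φ => by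
      rw [omega, Finset.sum_eq_single (1 : Subgroup.centralizer (D : Set F))
        (fun g _ hg => by rw [coeff_blockElt, hz g hg, zero_mul]) (by simp),
        coeff_blockElt, mul_div_assoc, div_self (apply_one_ne_zero φ.2), mul_one]
    have h1 := (hω ψ).trans (hω χ).symm
    rw [omega_blockElt, omega_blockElt, if_pos (mem_blockOf_self hM χ)] at h1
    by_contra hne
    rw [if_neg hne] at h1
    exact zero_ne_one h1
  have hcuniv : ∀ χ, χ ∈ c := fun χ => by
    obtain ⟨ξ, hξ⟩ := IsPBlock.nonempty hM hc.1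
    rw [IsPBlock.eq_blockOf hM hc.1 hξ]
    exact hcall ξ χ
  have hN : ∀ g : F, g ∈ Subgroup.normalizer (D : Set F) := fun g =>
    Subgroup.mem_normalizer_iff.2 fun x => ⟨fun hx => hQn.conj_mem x hx g, fun hx => by
      have := hQn.conj_mem _ hx g⁻¹
      simpa [mul_assoc] using this⟩
  have hT : ∀ g : F, g ∈ (⊤ : Subgroup F) ↔ (g ∈ Subgroup.normalizer (D : Set F) ∧
      StabilizesBlock (Subgroup.centralizer (D : Set F)) c g) := fun g => by
    have hgC := le_normalizer_centralizer D (hN g)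
    refine ⟨fun _ => ⟨hN g, hgC, fun χ _ => ⟨pushChar (conjK hgC) χ, hcuniv _, ?_⟩⟩, fun _ => Subgroup.mem_top g⟩
    intro x x' h
    rw [show x' = conjK hgC x from Subtype.ext h, pushChar_apply, MulEquiv.symm_apply_apply]
  have hrel : (Subgroup.centralizer (D : Set F)).relIndex ⊤ = e := by rw [Subgroup.relIndex_top_right, hQC, hidx]
  obtain ⟨-, R, ⟨Fc⟩⟩ := exists_frame hM hblk hD hQ ha hQcard hc hT hrel
  refine ⟨R, Fc, fun he2 => ?_⟩
  -- the commutator subgroup
  have hab : ∀ x ∈ D, ∀ y ∈ D, x * y = y * x := fun x hx y hy => by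
    letI := hQ.commGroup
    exact congrArg Subtype.val (mul_comm (⟨x, hx⟩ : D) ⟨y, hy⟩)
  have hcomm : commutator F = D := by
    refine le_antisymm ?_ ?_
    · rw [commutator_def, Subgroup.commutator_le]
      intro x _ y _
      rw [commutatorElement_def, ← hQC, Subgroup.mem_centralizer_iff]
      obtain ⟨q₀, hq₀⟩ := hQ.exists_generator
      have hact : ∀ z : F, ∃ i : ℤ, ∀ q ∈ D, z * q * z⁻¹ = q ^ i := fun z => by
        obtain ⟨i, hi⟩ := Subgroup.mem_zpowers_iff.1 (hq₀ ⟨z * q₀ * z⁻¹, hQn.conj_mem _ q₀.2 z⟩)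
        refine ⟨i, fun q hq => ?_⟩
        obtain ⟨j, hj⟩ := Subgroup.mem_zpowers_iff.1 (hq₀ ⟨q, hq⟩)
        have hi' : (q₀ : F) ^ i = z * q₀ * z⁻¹ := congrArg Subtype.val hi
        have hj' : (q₀ : F) ^ j = q := congrArg Subtype.val hj
        rw [← hj', ← conj_zpow, ← hi', ← zpow_mul, ← zpow_mul, mul_comm]
      intro q hq
      obtain ⟨i, hi⟩ := hact x
      obtain ⟨j, hj⟩ := hact y
      set r := (y * x)⁻¹ * q * (y * x) with hr
      have hrD : r ∈ D := by simpa [hr] using hQn.conj_mem q hq (y * x)⁻¹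
      have e1 : (x * y) * r * (x * y)⁻¹ = (y * x) * r * (y * x)⁻¹ := by
        calc (x * y) * r * (x * y)⁻¹ = x * (y * r * y⁻¹) * x⁻¹ := by group
          _ = (r ^ j) ^ i := by rw [hj r hrD, hi _ (D.zpow_mem hrD j)]
          _ = (r ^ i) ^ j := by rw [← zpow_mul, ← zpow_mul, mul_comm]
          _ = y * (x * r * x⁻¹) * y⁻¹ := by rw [hi r hrD, hj _ (D.zpow_mem hrD i)]
          _ = _ := by group
      have e2 : (y * x) * r * (y * x)⁻¹ = q := by rw [hr]; group
      have e3 : x * y * x⁻¹ * y⁻¹ * q * (x * y * x⁻¹ * y⁻¹)⁻¹ = q := by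
        calc x * y * x⁻¹ * y⁻¹ * q * (x * y * x⁻¹ * y⁻¹)⁻¹ = (x * y) * r * (x * y)⁻¹ := by rw [hr]; group
          _ = q := by rw [e1, e2]
      exact (mul_inv_eq_iff_eq_mul.1 e3).symm
    · -- a regular element outside acts without fixed points
      obtain ⟨l, hl, hle⟩ := Nat.exists_prime_and_dvd (show e ≠ 1 by omega)
      haveI := Fact.mk hl
      obtain ⟨t, ht⟩ := exists_prime_orderOf_dvd_card' l (hF ▸ hle.mul_left (p ^ a) : l ∣ Nat.card F)
      have hlp : ¬ p ∣ l := fun h => hpe ((((Nat.prime_dvd_prime_iff_eq hp.out hl).1 h).symm ▸ hle : p ∣ e))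
      have htD : t ∉ D := fun h => by
        obtain ⟨k, hk⟩ := IsPGroup.iff_orderOf.1 hQp ⟨t, h⟩
        rw [Subgroup.orderOf_mk, ht] at hk
        rcases k with _ | k
        · exact hl.ne_one (by rw [hk, pow_zero])
        · exact hlp (hk ▸ dvd_pow_self p k.succ_ne_zero)
      have hfix : ∀ x ∈ D, t * x * t⁻¹ = x → x = 1 := fun x hx he => by
        by_contra hx1
        refine htD ?_
        rw [← hQC, Subgroup.mem_centralizer_iff]
        exact fun y hy => ((CfsgLib.Zass.commute_cyclic_of_fix hQp hQ (hN t) (by rw [ht]; exact hlp) hx hx1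
          (mul_inv_eq_iff_eq_mul.1 he)) y hy).eq.symm
      have hinj : Function.Injective (fun x : D =>
          (⟨t * x * t⁻¹ * (x : F)⁻¹, D.mul_mem (hQn.conj_mem _ x.2 t) (D.inv_mem x.2)⟩ : D)) := fun x y h => by
        have h' : t * (x : F) * t⁻¹ * (x : F)⁻¹ = t * (y : F) * t⁻¹ * (y : F)⁻¹ := congrArg (fun z : D => (z : F)) h
        have hz := D.mul_mem (D.inv_mem y.2) x.2
        refine Subtype.ext (inv_mul_eq_one.1 (hfix _ hz ?_)).symm
        calc t * ((y : F)⁻¹ * x) * t⁻¹ = (t * (y : F) * t⁻¹)⁻¹ * (t * (x : F) * t⁻¹) := by group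
          _ = (t * (y : F) * t⁻¹)⁻¹ * ((t * (y : F) * t⁻¹ * (y : F)⁻¹) * x) := by rw [← h']; group
          _ = _ := by group
      intro q hq
      obtain ⟨x, hx⟩ := Finite.surjective_of_injective hinj ⟨q, hq⟩
      rw [← show t * (x : F) * t⁻¹ * (x : F)⁻¹ = q from congrArg Subtype.val hx, commutator_def]
      exact Subgroup.commutator_mem_commutator (Subgroup.mem_top t) (Subgroup.mem_top (x : F))
  -- linear means trivial on the cyclic group
  have hlin : ∀ η : IrrCharacter F, charDegree (η : F → ℂ) = 1 → ∀ x ∈ D, (η : F → ℂ) x = (η : F → ℂ) 1 :=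
    fun η h1 x hx => GaloisDegree.apply_commutator_of_linear η.2 h1 (hcomm ▸ hx)
  set L := Finset.univ.filter (fun η : IrrCharacter F => charDegree (η : F → ℂ) = 1) with hL
  have hLcard : L.card = e := by
    have h := Cfsg.Agent.S0154.result (G := F)
    rw [hcomm, hidx] at h
    rw [← h, Nat.card_eq_fintype_card, Fintype.card_subtype]
    congr 1
    refine Finset.filter_congr fun η _ => ?_
    rw [apply_one (isCharacter_of_irr η.2)]
    exact_mod_cast Iff.rfl
  have htot : Fintype.card (IrrCharacter F) = e + Fintype.card (Orb R) := by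
    rw [← Fc.card, Nat.card_univ, Nat.card_eq_fintype_card]
  have hNL : Lᶜ.card = Fintype.card (Orb R) := by rw [Finset.card_compl, htot, hLcard]; omega
  intro η η' hη hη'
  have hmem : ∀ η : IrrCharacter F, (∃ x ∈ D, (η : F → ℂ) x ≠ (η : F → ℂ) 1) → η ∈ Lᶜ := fun η ⟨x, hx, hne⟩ =>
    Finset.mem_compl.2 fun h => hne (hlin η (Finset.mem_filter.1 h).2 x hx)
  by_cases hm : Fintype.card (Orb R) ≤ 1
  · exact Or.inl (Finset.card_le_one.1 (hNL ▸ hm) _ (hmem η hη) _ (hmem η' hη'))
  right
  have hsub : Finset.univ.image Fc.f ⊆ Lᶜ := by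
    intro χ hχ
    obtain ⟨O, -, rfl⟩ := Finset.mem_image.1 hχ
    obtain ⟨O', hO'⟩ := Fintype.exists_ne_of_one_lt_card (by omega) O
    rw [Finset.mem_compl]
    intro hlinO
    have h1 : ¬ p ∣ orderOf (1 : F) := by rw [orderOf_one]; exact hp.out.not_dvd_one
    have hd : charDegree (Fc.f O' : F → ℂ) = 1 := by
      have h := Fc.agree O O' h1
      rw [apply_one (isCharacter_of_irr (Fc.f O).2), apply_one (isCharacter_of_irr (Fc.f O').2),
        (Finset.mem_filter.1 hlinO).2] at h
      exact_mod_cast h.symm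
    refine hO' (Fc.f_inj (Subtype.ext (funext fun g => ?_))).symm
    obtain ⟨x, y, hxy, -, hx, hy, -, -⟩ := ZStar.exists_pPart (p := p) hp.out g
    have hd0 := (Finset.mem_filter.1 hlinO).2
    obtain ⟨φ, hφ⟩ := Clifford.exists_hom_of_linear (isCharacter_of_irr (Fc.f O).2)
      (by rw [apply_one (isCharacter_of_irr (Fc.f O).2), hd0, Nat.cast_one])
    obtain ⟨φ', hφ'⟩ := Clifford.exists_hom_of_linear (isCharacter_of_irr (Fc.f O').2)
      (by rw [apply_one (isCharacter_of_irr (Fc.f O').2), hd, Nat.cast_one])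
    have a1 := hlin _ hd0 x (hmemQ x hx)
    have a2 := hlin _ hd x (hmemQ x hx)
    have a3 := Fc.agree O O' hy
    rw [← hxy]
    rw [hφ] at a1 a3 ⊢
    rw [hφ'] at a2 a3 ⊢
    simp only [map_one] at a1 a2
    simp only at a3 ⊢
    rw [map_mul, map_mul, a1, a2, a3]
  have heq := Finset.eq_of_subset_of_card_le hsub
    (by rw [Finset.card_image_of_injective _ Fc.f_inj, Finset.card_univ, hNL])
  refine ⟨?_, ?_⟩
  · obtain ⟨O, -, hO⟩ := Finset.mem_image.1 (heq ▸ hmem η hη : η ∈ Finset.univ.image Fc.f)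
    exact ⟨O, hO.symm⟩
  · obtain ⟨O, -, hO⟩ := Finset.mem_image.1 (heq ▸ hmem η' hη' : η' ∈ Finset.univ.image Fc.f)
    exact ⟨O, hO.symm⟩

end CfsgLib.CyclicExc
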